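import Mathlib
import Cfsg.Agent.Coprime.Action

/-!
A group of odd order acted on by a four-group is the product, in any given order, of the three
centralisers of the involutions.
-/

set_option autoImplicit false
set_option linter.unusedSectionVars false
set_option linter.style.haveILetI false

namespace Cfsg.Lib.ExtClosed

open Subgroup
open scoped commutatorElement

universe u

section
variable {G : Type u} [Group G] [Finite G]

theorem odd_orderOf_of_mem {O : Subgroup G} (hO : Odd (Nat.card O)) {x : G} (hx : x ∈ O) :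
    Odd (orderOf x) :=
  Odd.of_dvd_nat hO (Subgroup.orderOf_dvd_natCard O hx)

theorem eq_one_of_sq {x : G} (hx : Odd (orderOf x)) (h : x * x = 1) : x = 1 := by
  obtain ⟨k, hk⟩ := hx
  have := pow_orderOf_eq_one x
  rwa [hk, pow_succ, pow_mul, pow_two, h, one_pow, one_mul] at this

/-- a square root inside the cyclic group of an element of odd order -/
theorem exists_sqrt {x : G} (hx : Odd (orderOf x)) : ∃ m : ℕ, x ^ m * x ^ m = x := by
  obtain ⟨k, hk⟩ := hx
  refine ⟨k + 1, ?_⟩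
  rw [← pow_add, show k + 1 + (k + 1) = orderOf x + 1 by omega, pow_succ, pow_orderOf_eq_one, one_mul]

/-- no element of odd order sends a non-trivial element of odd order to its inverse -/
theorem eq_one_of_conj_inv {j x : G} (hj : Odd (orderOf j)) (hx : Odd (orderOf x))
    (h : j * x * j⁻¹ = x⁻¹) : x = 1 := by
  have h2 : ∀ k : ℕ, j ^ (2 * k) * x * (j ^ (2 * k))⁻¹ = x := by
    intro k
    induction k with
    | zero => simp
    | succ k ih =>
      have h' : j * (j * x * j⁻¹) * j⁻¹ = x := by rw [h, ← conj_inv, h, inv_inv]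
      calc j ^ (2 * (k + 1)) * x * (j ^ (2 * (k + 1)))⁻¹
          = j ^ (2 * k) * (j * (j * x * j⁻¹) * j⁻¹) * (j ^ (2 * k))⁻¹ := by
            rw [show 2 * (k + 1) = 2 * k + 2 by ring, pow_add, pow_two]; group
        _ = x := by rw [h', ih]
  obtain ⟨k, hk⟩ := hj
  have hp := pow_orderOf_eq_one j
  rw [hk, pow_succ] at hp
  have hjk : j ^ (2 * k) = j⁻¹ := eq_inv_of_mul_eq_one_left hp
  have h3 := h2 k
  rw [hjk, inv_inv] at h3
  have h4 : j * x * j⁻¹ = x := by
    calc j * x * j⁻¹ = j * (j⁻¹ * x * j) * j⁻¹ := by rw [h3]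
      _ = x := by group
  rw [h] at h4
  refine eq_one_of_sq hx ?_
  calc x * x = x * x⁻¹ := by rw [h4]
    _ = 1 := mul_inv_cancel x

theorem inv_self {a : G} (ha : a * a = 1) : a⁻¹ = a := inv_eq_of_mul_eq_one_left ha

theorem commute_of_conj_eq {a x : G} (h : a * x * a⁻¹ = x) : Commute a x :=
  mul_inv_eq_iff_eq_mul.1 h

/-- the abelian step -/
theorem abelian_step {a b j : G} (ha : a * a = 1) (hb : b * b = 1) (hab : Commute a b) {N : Subgroup G}
    (hN : Odd (Nat.card N)) (hNc : ∀ x ∈ N, ∀ y ∈ N, x * y = y * x)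
    (haN : ∀ x ∈ N, a * x * a⁻¹ ∈ N) (hbN : ∀ x ∈ N, b * x * b⁻¹ ∈ N) (hjN : ∀ x ∈ N, j⁻¹ * x * j ∈ N)
    (hj : Odd (orderOf j)) (haj : a * j * a⁻¹ = j⁻¹) (hbj : Commute b j) {n : G} (hn : n ∈ N) :
    ∃ α ∈ N, ∃ β ∈ N, ∃ γ ∈ N, Commute a α ∧ Commute b β ∧ Commute (a * b) γ ∧
      n = j⁻¹ * α * j * β * γ := by
  classical
  letI : CommGroup N := { (inferInstance : Group N) with
    mul_comm := fun x y => Subtype.ext (hNc x x.2 y y.2) }
  let σ : N →* N := MonoidHom.mk' (fun x => ⟨a * x * a⁻¹, haN x x.2⟩)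
    fun x y => Subtype.ext (by simp [mul_assoc])
  let τ : N →* N := MonoidHom.mk' (fun x => ⟨b * x * b⁻¹, hbN x x.2⟩)
    fun x y => Subtype.ext (by simp [mul_assoc])
  let κ : N →* N := MonoidHom.mk' (fun x => ⟨j⁻¹ * x * j, hjN x x.2⟩)
    fun x y => Subtype.ext (by simp [mul_assoc])
  have hσv : ∀ x : N, (σ x : G) = a * x * a⁻¹ := fun x => rfl
  have hτv : ∀ x : N, (τ x : G) = b * x * b⁻¹ := fun x => rfl
  have hκv : ∀ x : N, (κ x : G) = j⁻¹ * x * j := fun x => rfl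
  have hσσ : ∀ x, σ (σ x) = x := fun x => Subtype.ext (by
    rw [hσv, hσv, show a * (a * x * a⁻¹) * a⁻¹ = (a * a) * x * (a * a)⁻¹ by group, ha]; simp)
  have hττ : ∀ x, τ (τ x) = x := fun x => Subtype.ext (by
    rw [hτv, hτv, show b * (b * x * b⁻¹) * b⁻¹ = (b * b) * x * (b * b)⁻¹ by group, hb]; simp)
  have hστ : ∀ x, σ (τ x) = τ (σ x) := fun x => Subtype.ext (by
    rw [hσv, hτv, hτv, hσv, show a * (b * x * b⁻¹) * a⁻¹ = (a * b) * x * (a * b)⁻¹ by group,
      hab.eq]; group)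
  have hodd : ∀ x : N, Odd (orderOf x) := fun x => Odd.of_dvd_nat hN (orderOf_dvd_natCard x)
  have hsq : ∀ x : N, x * x = 1 → x = 1 := fun x h => eq_one_of_sq (hodd x) h
  have hinj : ∀ x y : N, x * x = y * y → x = y := fun x y h => mul_inv_eq_one.1 (hsq _ (by
    rw [mul_mul_mul_comm, h, ← mul_inv, mul_inv_cancel]))
  -- the decomposition without `j`
  have hdec : ∀ x : N, ∃ α β γ : N, σ α = α ∧ τ β = β ∧ σ (τ γ) = γ ∧ x = α * β * γ := by
    intro x
    obtain ⟨r, hm⟩ : ∃ r : N, r * r = x := ⟨_, (exists_sqrt (hodd x)).choose_spec⟩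
    refine ⟨r * σ r, r * τ r, r * σ (τ r) * (r * σ r * (τ r * σ (τ r)))⁻¹, ?_, ?_, ?_, ?_⟩
    · rw [map_mul, hσσ, mul_comm]
    · rw [map_mul, hττ, mul_comm]
    · simp only [map_mul, map_inv, hστ, hσσ, hττ, mul_inv]; ac_rfl
    · calc x = r * r * (r * σ r * (τ r * σ (τ r)) * (r * σ r * (τ r * σ (τ r)))⁻¹) := by
            rw [mul_inv_cancel, mul_one, hm]
        _ = _ := by simp only [mul_inv]; ac_rfl
  let π : N →* N := MonoidHom.mk' (fun x => x * σ x * (τ (x * σ x))⁻¹) fun x y => by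
    simp only [map_mul, mul_inv]; ac_rfl
  have hπv : ∀ x, π x = x * σ x * (τ (x * σ x))⁻¹ := fun x => rfl
  have hπσ : ∀ x, σ (π x) = π x := fun x => by
    simp only [hπv, map_mul, map_inv, hστ, hσσ, mul_inv]; ac_rfl
  have hπτ : ∀ x, τ (π x) = (π x)⁻¹ := fun x => by
    simp only [hπv, map_mul, map_inv, hττ, mul_inv, inv_inv]; ac_rfl
  have hker : ∀ x, π x = 1 → ∃ β γ : N, τ β = β ∧ σ (τ γ) = γ ∧ x = β * γ := by
    intro x hx
    obtain ⟨α, β, γ, hα, hβ, hγ, rfl⟩ := hdec x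
    refine ⟨α * β, γ, ?_, hγ, rfl⟩
    have hγ' : σ γ = τ γ := by
      calc σ γ = σ (σ (τ γ)) := by rw [hγ]
        _ = τ γ := hσσ _
    have h1 : π β = 1 := by
      rw [hπv, map_mul, ← hστ, hβ]; simp
    have h2 : π γ = 1 := by
      rw [hπv, hγ', map_mul, hττ, mul_comm γ]; simp
    rw [map_mul, map_mul, h1, h2, mul_one, mul_one, hπv, hα, mul_inv_eq_one, map_mul] at hx
    rw [map_mul, hβ, ← hinj α (τ α) hx]
  -- the restriction to the relevant eigenspace
  let V : Subgroup N :=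
    { carrier := {x | σ x = x ∧ τ x = x⁻¹}
      one_mem' := ⟨map_one _, by rw [map_one, inv_one]⟩
      mul_mem' := fun {x y} hx hy => ⟨by rw [map_mul, hx.1, hy.1],
        by rw [map_mul, hx.2, hy.2, mul_inv]⟩
      inv_mem' := fun {x} hx => ⟨by rw [map_inv, hx.1], by rw [map_inv, hx.2]⟩ }
  let φ : V →* V := MonoidHom.mk' (fun x => ⟨π (κ x), hπσ _, hπτ _⟩)
    fun x y => Subtype.ext (by simp [map_mul])
  have hφ : Function.Injective φ := by
    refine (injective_iff_map_eq_one φ).2 fun x hx => ?_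
    have hx1 : π (κ x.1) = 1 := congrArg Subtype.val hx
    have hb' : τ (κ x.1) = (κ x.1)⁻¹ := by
      refine Subtype.ext ?_
      have e : b * (x.1 : G) * b⁻¹ = (x.1 : G)⁻¹ := congrArg Subtype.val x.2.2
      show b * (j⁻¹ * (x.1 : G) * j) * b⁻¹ = (j⁻¹ * (x.1 : G) * j)⁻¹
      calc b * (j⁻¹ * (x.1 : G) * j) * b⁻¹ = (b * j⁻¹) * (x.1 : G) * (j * b⁻¹) := by group
        _ = j⁻¹ * (b * (x.1 : G) * b⁻¹) * j := by
          rw [hbj.inv_right.eq, hbj.inv_left.symm.eq]; group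
        _ = _ := by rw [e]; group
    set m := κ x.1 with hm
    rw [hπv, map_mul, ← hστ, hb', map_inv, ← mul_inv, inv_inv] at hx1
    have hma : σ m = m⁻¹ := eq_inv_of_mul_eq_one_right (hsq _ hx1)
    have ea : a * (x.1 : G) * a⁻¹ = (x.1 : G) := congrArg Subtype.val x.2.1
    have hma' : a * (j⁻¹ * (x.1 : G) * j) * a⁻¹ = (j⁻¹ * (x.1 : G) * j)⁻¹ := congrArg Subtype.val hma
    have hmb : j * (x.1 : G) * j⁻¹ = j⁻¹ * (x.1 : G)⁻¹ * j := by
      calc j * (x.1 : G) * j⁻¹ = (a * j⁻¹ * a⁻¹) * (a * x.1 * a⁻¹) * (a * j * a⁻¹) := by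
            rw [ea, haj, show a * j⁻¹ * a⁻¹ = (a * j * a⁻¹)⁻¹ by group, haj, inv_inv]
        _ = a * (j⁻¹ * x.1 * j) * a⁻¹ := by group
        _ = _ := by rw [hma']; group
    have hxx : (j * j) * (x.1 : G) * (j * j)⁻¹ = (x.1 : G)⁻¹ := by
      calc (j * j) * (x.1 : G) * (j * j)⁻¹ = j * (j * x.1 * j⁻¹) * j⁻¹ := by group
        _ = _ := by rw [hmb]; group
    have hjj : Odd (orderOf (j * j)) := by
      rw [← pow_two]; exact hj.of_dvd_nat (orderOf_pow_dvd 2)
    exact Subtype.ext (Subtype.ext (eq_one_of_conj_inv hjj (odd_orderOf_of_mem hN x.1.2) hxx))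
  have hsurj := Finite.surjective_of_injective hφ
  set x : N := ⟨n, hn⟩
  obtain ⟨α, hα⟩ := hsurj ⟨π x, hπσ x, hπτ x⟩
  obtain ⟨β, γ, hβ, hγ, he⟩ := hker ((κ α.1)⁻¹ * x) (by
    rw [map_mul, map_inv, show π (κ α.1) = π x from congrArg Subtype.val hα, inv_mul_cancel])
  refine ⟨α.1, (α.1).2, β, β.2, γ, γ.2, commute_of_conj_eq (congrArg Subtype.val α.2.1),
    commute_of_conj_eq (congrArg Subtype.val hβ), commute_of_conj_eq ?_, ?_⟩
  · have e : a * (b * (γ : G) * b⁻¹) * a⁻¹ = γ := congrArg Subtype.val hγ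
    rw [mul_inv_rev]
    simpa [mul_assoc] using e
  · have e := congrArg Subtype.val he
    have e' : (κ α.1 : G)⁻¹ * n = (β : G) * γ := e
    rw [hκv] at e'
    rw [mul_assoc _ (β : G), ← e']
    group

end

/-- the statement proved by induction -/
theorem factor_aux (k : ℕ) : ∀ (G : Type u) [Group G] [Finite G] (a b : G) (O : Subgroup G),
    Nat.card O = k → a * a = 1 → b * b = 1 → Commute a b → Odd (Nat.card O) → Group.IsSolvable O →
    (∀ x ∈ O, a * x * a⁻¹ ∈ O) → (∀ x ∈ O, b * x * b⁻¹ ∈ O) → ∀ x ∈ O,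
    ∃ u ∈ O, ∃ y ∈ O, ∃ z ∈ O, Commute a u ∧ Commute b y ∧ Commute (a * b) z ∧ x = u * y * z := by
  classical
  induction k using Nat.strong_induction_on with
  | _ k ih =>
  intro G _ _ a b O hk ha hb hab hodd hsol haO hbO x hx
  by_cases hO : O = ⊥
  · rw [hO, mem_bot] at hx
    exact ⟨1, one_mem _, 1, one_mem _, 1, one_mem _, Commute.one_right _, Commute.one_right _,
      Commute.one_right _, by rw [hx]; simp⟩
  -- the last non-trivial derived subgroup
  obtain ⟨N, hNO, hN1, hNc, hNinv⟩ : ∃ N : Subgroup G, N ≤ O ∧ N ≠ ⊥ ∧ (∀ p ∈ N, ∀ q ∈ N, p * q = q * p) ∧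
      ∀ g : G, (∀ y ∈ O, g * y * g⁻¹ ∈ O) → g ∈ normalizer (N : Set G) := by
    obtain ⟨r, hr⟩ := (Group.isSolvable_def O).1 hsol
    have hex : ∃ m, derivedSeries O m = ⊥ := ⟨r, hr⟩
    have h0 : Nat.find hex ≠ 0 := by
      intro h0
      have h1 := Nat.find_spec hex
      rw [h0, derivedSeries_zero] at h1
      haveI : Subsingleton O := (Subgroup.subsingleton_iff.1 (subsingleton_of_bot_eq_top h1.symm))
      exact hO (eq_bot_iff_forall _ |>.2 fun y hy => congrArg Subtype.val (Subsingleton.elim (⟨y, hy⟩ : O) 1))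
    obtain ⟨m, hm⟩ := Nat.exists_eq_succ_of_ne_zero h0
    refine ⟨(derivedSeries O m).map O.subtype, map_subtype_le _, fun h => ?_, ?_, fun g hg => ?_⟩
    · refine Nat.find_min hex (hm ▸ Nat.lt_succ_self m) ?_
      rwa [map_eq_bot_iff_of_injective _ O.subtype_injective] at h
    · rintro _ ⟨p, hp, rfl⟩ _ ⟨q, hq, rfl⟩
      have h1 : ⁅p, q⁆ ∈ derivedSeries O (m + 1) := commutator_mem_commutator hp hq
      rw [← Nat.succ_eq_add_one, ← hm, Nat.find_spec hex, mem_bot] at h1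
      exact congrArg Subtype.val (commutatorElement_eq_one_iff_mul_comm.1 h1)
    · refine Subgroup.mem_normalizer_iff.2 ?_
      have hmap : O.map (MulAut.conj g).toMonoidHom = O :=
        Subgroup.eq_of_le_of_card_ge (by rintro _ ⟨y, hy, rfl⟩; exact hg y hy)
          (card_map_of_injective (MulAut.conj g).injective).ge
      let e : O ≃* O := (O.equivMapOfInjective (MulAut.conj g).toMonoidHom (MulAut.conj g).injective).trans
        (MulEquiv.subgroupCongr hmap)
      have hmapN : ((derivedSeries O m).map O.subtype).map (MulAut.conj g).toMonoidHom =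
          (derivedSeries O m).map O.subtype := by
        rw [map_map, show (MulAut.conj g).toMonoidHom.comp O.subtype = O.subtype.comp e.toMonoidHom from
          MonoidHom.ext fun y => rfl, ← map_map,
          map_derivedSeries_eq (f := e.toMonoidHom) e.surjective]
      refine fun y => ⟨fun hy => ?_, fun hy => ?_⟩
      · rw [← hmapN]; exact mem_map_of_mem _ hy
      · rw [← hmapN] at hy
        obtain ⟨z, hz, hzy⟩ := hy
        rwa [← (MulAut.conj g).injective (hzy : MulAut.conj g z = MulAut.conj g y)]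
  have haN := hNinv a haO
  have hbN := hNinv b hbO
  have hON : O ≤ normalizer (N : Set G) := fun y hy => hNinv y fun z hz => mul_mem (mul_mem hy hz) (inv_mem hy)
  set R := normalizer (N : Set G)
  haveI hnN : (N.subgroupOf R).Normal := normal_in_normalizer
  set π := QuotientGroup.mk' (N.subgroupOf R)
  set O' := (O.subgroupOf R).map π
  have hcard : Nat.card O' < k := by
    refine lt_of_le_of_ne (hk ▸ ?_) fun hne => ?_
    · calc Nat.card O' ≤ Nat.card (O.subgroupOf R) := Nat.card_image_le (f := π) (Set.toFinite _)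
        _ = Nat.card O := Nat.card_congr (subgroupOfEquivOfLe hON).toEquiv
    · obtain ⟨⟨p, hp⟩, hp0⟩ := ne_bot_iff_exists_ne_one.1 hN1
      have hp1 : p ≠ 1 := fun h => hp0 (Subtype.ext h)
      have hinj : Function.Injective (π.domRestrict (O.subgroupOf R)) := by
        have hb' : Nat.card (O.subgroupOf R) = Nat.card (π.domRestrict (O.subgroupOf R)).range := by
          rw [MonoidHom.domRestrict_range, Nat.card_congr (subgroupOfEquivOfLe hON).toEquiv, hk]
          exact hne.symm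
        have := ((π.domRestrict (O.subgroupOf R)).rangeRestrict_surjective).bijective_of_nat_card_le hb'.le
        exact MonoidHom.rangeRestrict_injective_iff.1 this.1
      have h1 : π ⟨p, hON (hNO hp)⟩ = π 1 := by
        rw [map_one]; exact (QuotientGroup.eq_one_iff _).2 hp
      exact hp1 (congrArg (fun w : O.subgroupOf R => ((w : R) : G))
        (@hinj ⟨⟨p, hON (hNO hp)⟩, hNO hp⟩ 1 (by simpa using h1)))
  have hdvd : Nat.card O' ∣ Nat.card O :=
    (card_map_dvd _ _).trans (Nat.card_congr (subgroupOfEquivOfLe hON).toEquiv).dvd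
  have hsol' : Group.IsSolvable O' := by
    haveI : Group.IsSolvable (O.subgroupOf R) :=
      solvable_of_solvable_injective (f := (subgroupOfEquivOfLe hON).toMonoidHom) (MulEquiv.injective _)
    exact solvable_of_surjective (π.subgroupMap_surjective (O.subgroupOf R))
  obtain ⟨u', ⟨u0, hu0, rfl⟩, y', ⟨y0, hy0, rfl⟩, z', ⟨z0, hz0, rfl⟩, hu, hy, hz, he⟩ :=
    ih _ hcard (R ⧸ N.subgroupOf R) (π ⟨a, haN⟩) (π ⟨b, hbN⟩) O' rfl
      (by rw [← map_mul, show (⟨a, haN⟩ : R) * ⟨a, haN⟩ = 1 from Subtype.ext ha, map_one])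
      (by rw [← map_mul, show (⟨b, hbN⟩ : R) * ⟨b, hbN⟩ = 1 from Subtype.ext hb, map_one])
      ((show Commute (⟨a, haN⟩ : R) ⟨b, hbN⟩ from Subtype.ext hab.eq).map π)
      (hodd.of_dvd_nat hdvd) hsol'
      (by
        rintro _ ⟨y, hy, rfl⟩
        refine ⟨⟨a, haN⟩ * y * ⟨a, haN⟩⁻¹, haO _ hy, by simp⟩)
      (by
        rintro _ ⟨y, hy, rfl⟩
        refine ⟨⟨b, hbN⟩ * y * ⟨b, hbN⟩⁻¹, hbO _ hy, by simp⟩)
      (π ⟨x, hON hx⟩) ⟨_, hx, rfl⟩
  -- lifting fixed points
  have hlift : ∀ (c : G) (hc : c ∈ R) (w : R), c * c = 1 → (∀ y ∈ O, c * y * c⁻¹ ∈ O) → (w : G) ∈ O →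
      Commute (π ⟨c, hc⟩) (π w) → ∃ q ∈ N, Commute c ((w : G) * q) := by
    intro c hc w hcc _ hw hcm
    have hcop : (Nat.card (zpowers c)).Coprime (Nat.card N) := by
      refine Nat.Coprime.coprime_dvd_left ?_ (Nat.coprime_two_left.2 (hodd.of_dvd_nat (card_dvd_of_le hNO)))
      rw [Nat.card_zpowers]
      exact orderOf_dvd_of_pow_eq_one (by rw [pow_two, hcc])
    have hd : c * (w : G) * c⁻¹ * (w : G)⁻¹ ∈ N := by
      have : π (⟨c, hc⟩ * w * ⟨c, hc⟩⁻¹ * w⁻¹) = 1 := by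
        simp only [map_mul, map_inv, hcm.eq]; group
      exact (QuotientGroup.eq_one_iff (N := N.subgroupOf R) _).1 this
    obtain ⟨q, hq, hqc⟩ := Cfsg.Lib.Coprime.exists_fixed_of_commutator_mem (A := zpowers c)
      (zpowers_le.2 hc) hcop (Or.inl (Group.isSolvable_of_comm fun p r => by
        obtain ⟨i, hi⟩ := p.2; obtain ⟨l, hl⟩ := r.2
        exact Subtype.ext (by rw [Subgroup.coe_mul, Subgroup.coe_mul, ← hi, ← hl]; exact zpow_mul_comm c i l)))
      (k := (w : G)) (hON hw) (by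
        rintro _ ⟨i, rfl⟩
        rcases Int.even_or_odd i with ⟨l, hl⟩ | ⟨l, hl⟩
        · show c ^ i * _ * (c ^ i)⁻¹ * _ ∈ N
          rw [hl, ← two_mul, zpow_mul, zpow_two, hcc, one_zpow]; simp
        · show c ^ i * _ * (c ^ i)⁻¹ * _ ∈ N
          rw [hl, zpow_add, zpow_mul, zpow_two, hcc, one_zpow, one_mul, zpow_one]; exact hd)
    exact ⟨q, hq, (mem_centralizer_iff.1 hqc c (mem_zpowers c))⟩
  have hcO : ∀ y ∈ O, a * b * y * (a * b)⁻¹ ∈ O := fun y hy => by
    rw [show a * b * y * (a * b)⁻¹ = a * (b * y * b⁻¹) * a⁻¹ by group]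
    exact haO _ (hbO _ hy)
  have hcc : a * b * (a * b) = 1 := by
    rw [mul_assoc, ← mul_assoc b a b, ← hab.eq, mul_assoc a b b, hb, mul_one, ha]
  obtain ⟨q₁, hq₁, h1⟩ := hlift a haN u0 ha haO hu0 hu
  obtain ⟨q₂, hq₂, h2⟩ := hlift b hbN y0 hb hbO hy0 hy
  obtain ⟨q₃, hq₃, h3⟩ := hlift (a * b) (mul_mem haN hbN) z0 hcc hcO hz0 (by
    rw [show (⟨a * b, mul_mem haN hbN⟩ : R) = ⟨a, haN⟩ * ⟨b, hbN⟩ from rfl, map_mul]; exact hz)
  set u := (u0 : G) * q₁
  set y := (y0 : G) * q₂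
  set z := (z0 : G) * q₃
  have huO : u ∈ O := mul_mem hu0 (hNO hq₁)
  have hyO : y ∈ O := mul_mem hy0 (hNO hq₂)
  have hzO : z ∈ O := mul_mem hz0 (hNO hq₃)
  have hn : (u * y * z)⁻¹ * x ∈ N := by
    have e1 : π ⟨u, hON huO⟩ = π u0 :=
      QuotientGroup.eq.2 (show u⁻¹ * u0 ∈ N by simp [u, mul_assoc, hq₁])
    have e2 : π ⟨y, hON hyO⟩ = π y0 :=
      QuotientGroup.eq.2 (show y⁻¹ * y0 ∈ N by simp [y, mul_assoc, hq₂])
    have e3 : π ⟨z, hON hzO⟩ = π z0 :=
      QuotientGroup.eq.2 (show z⁻¹ * z0 ∈ N by simp [z, mul_assoc, hq₃])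
    rw [← e1, ← e2, ← e3, ← map_mul, ← map_mul] at he
    exact (QuotientGroup.eq (s := N.subgroupOf R)).1 he.symm
  set n := (u * y * z)⁻¹ * x with hndef
  -- split `y` into a fixed and an inverted part
  set e := (a * y * a⁻¹)⁻¹ * y with hedef
  have heO : e ∈ O := mul_mem (inv_mem (haO _ hyO)) hyO
  obtain ⟨m, hm⟩ := exists_sqrt (odd_orderOf_of_mem hodd heO)
  set j := e ^ m with hjdef
  have haa : a⁻¹ = a := inv_self ha
  have haya : a * (a * y * a⁻¹) * a⁻¹ = y := by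
    rw [show a * (a * y * a⁻¹) * a⁻¹ = (a * a) * y * (a * a)⁻¹ by group, ha]; simp
  have hae : a * e * a⁻¹ = e⁻¹ := by
    calc a * e * a⁻¹ = (a * (a * y * a⁻¹) * a⁻¹)⁻¹ * (a * y * a⁻¹) := by
          simp only [hedef, mul_inv_rev, inv_inv, mul_assoc, inv_mul_cancel_left, mul_inv_cancel_left]
      _ = y⁻¹ * (a * y * a⁻¹) := by rw [haya]
      _ = _ := by rw [hedef]; group
  have haj : a * j * a⁻¹ = j⁻¹ := by rw [hjdef, ← conj_pow, hae, inv_pow]
  have hbe : Commute b e :=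
    (((hab.symm.mul_right h2).mul_right hab.symm.inv_right).inv_right).mul_right h2
  have hbj : Commute b j := hbe.pow_right m
  have hjO : j ∈ O := pow_mem heO m
  set d := y * j⁻¹
  have had : Commute a d := by
    refine commute_of_conj_eq ?_
    calc a * (y * j⁻¹) * a⁻¹ = (a * y * a⁻¹) * (a * j * a⁻¹)⁻¹ := by group
      _ = (a * y * a⁻¹) * j := by rw [haj, inv_inv]
      _ = (a * y * a⁻¹) * (j * j) * j⁻¹ := by group
      _ = y * j⁻¹ := by rw [hm, hedef]; group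
  have hjN : ∀ p ∈ N, j⁻¹ * p * j ∈ N := fun p hp => by
    have := (Subgroup.mem_normalizer_iff.1 (inv_mem (hON hjO)) p).1 hp
    rwa [inv_inv] at this
  have hn' : z * n * z⁻¹ ∈ N := (Subgroup.mem_normalizer_iff.1 (hON hzO) n).1 hn
  obtain ⟨α, hα, β, hβ, γ, hγ, haα, hbβ, hcγ, hd⟩ := abelian_step ha hb hab
    (hodd.of_dvd_nat (card_dvd_of_le hNO)) hNc
    (fun p hp => (Subgroup.mem_normalizer_iff.1 haN p).1 hp)
    (fun p hp => (Subgroup.mem_normalizer_iff.1 hbN p).1 hp) hjN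
    (odd_orderOf_of_mem hodd hjO) haj hbj hn'
  refine ⟨u * d * α, mul_mem (mul_mem huO (mul_mem hyO (inv_mem hjO))) (hNO hα),
    j * β, mul_mem hjO (hNO hβ), γ * z, mul_mem (hNO hγ) hzO,
    (h1.mul_right had).mul_right haα, hbj.mul_right hbβ, hcγ.mul_right h3, ?_⟩
  calc x = u * y * z * n := by rw [hndef]; group
    _ = u * y * (z * n * z⁻¹) * z := by group
    _ = _ := by rw [hd]; simp only [d]; group

/-- a group of odd order is the product of the centralisers of the three involutions -/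
theorem four_factor {G : Type u} [Group G] [Finite G] {a b : G} {O : Subgroup G} (ha : a * a = 1)
    (hb : b * b = 1) (hab : Commute a b) (hodd : Odd (Nat.card O)) (hsol : Group.IsSolvable O)
    (haO : ∀ x ∈ O, a * x * a⁻¹ ∈ O) (hbO : ∀ x ∈ O, b * x * b⁻¹ ∈ O) {x : G} (hx : x ∈ O) :
    ∃ u ∈ O, ∃ y ∈ O, ∃ z ∈ O, Commute a u ∧ Commute b y ∧ Commute (a * b) z ∧ x = u * y * z :=
  factor_aux _ G a b O rfl ha hb hab hodd hsol haO hbO x hx

end Cfsg.Lib.ExtClosed
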