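import Cfsg.Agent.ExtClosed.Four
import Cfsg.Agent.InvolCalc.ZStarApps
import Cfsg.Agent.OddChar.PF.OddOrder
import Cfsg.Prelude.Def_SubgroupEmbedding

/-!
Extremely closed abelian 2-subgroups: `G = N(H) O(G)`.
-/

set_option autoImplicit false
set_option linter.unusedSectionVars false
set_option linter.style.haveILetI false

namespace Cfsg.Lib.ExtClosed

open Subgroup
open Cfsg.Lib.ZStarApps (mem_normalizer_of_maps)

universe u

variable {G : Type u} [Group G] [Finite G]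

/-- the odd core of a subgroup, seen in the whole group -/
def core (K : Subgroup G) : Subgroup G := (Cfsg.pPrimeCore 2 K).map K.subtype

theorem core_le (K : Subgroup G) : core K ≤ K := map_subtype_le _

theorem odd_core (K : Subgroup G) : Odd (Nat.card (core K)) := by
  rw [core, card_map_of_injective K.subtype_injective]
  exact Cfsg.Lib.ZStarApps.odd_card_pPrimeCore

theorem conj_mem_core {K : Subgroup G} {k x : G} (hk : k ∈ K) (hx : x ∈ core K) :
    k * x * k⁻¹ ∈ core K := by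
  obtain ⟨y, hy, rfl⟩ := hx
  exact ⟨⟨k, hk⟩ * y * ⟨k, hk⟩⁻¹,
    (inferInstance : (Cfsg.pPrimeCore 2 K).Normal).conj_mem y hy _, rfl⟩

theorem mul_pow_mem {O : Subgroup G} {t w : G} (ht : ∀ x ∈ O, t * x * t⁻¹ ∈ O) (hw : w ∈ O) (k : ℕ) :
    (t * w) ^ k * (t ^ k)⁻¹ ∈ O := by
  induction k with
  | zero => simp
  | succ k ih =>
    rw [pow_succ', pow_succ' t, show t * w * (t * w) ^ k * (t * t ^ k)⁻¹ =
      t * (w * ((t * w) ^ k * (t ^ k)⁻¹)) * t⁻¹ by group]
    exact ht _ (mul_mem hw ih)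

/-- a 2-element times an element of a normalised odd subgroup has odd order only if it is trivial -/
theorem eq_one_of_mul_odd {O : Subgroup G} (hO : Odd (Nat.card O)) {t w : G}
    (ht : ∀ x ∈ O, t * x * t⁻¹ ∈ O) (hw : w ∈ O) {s : ℕ} (h2 : t ^ 2 ^ s = 1)
    (hodd : Odd (orderOf (t * w))) : t = 1 := by
  have h1 := mul_pow_mem ht hw (orderOf (t * w))
  rw [pow_orderOf_eq_one, one_mul, inv_mem_iff] at h1
  have h3 : t ^ (orderOf (t * w) * Nat.card O) = 1 := by
    rw [pow_mul]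
    exact orderOf_dvd_iff_pow_eq_one.1 (Subgroup.orderOf_dvd_natCard O h1)
  exact orderOf_eq_one_iff.1 (Nat.eq_one_of_dvd_coprimes
    ((Nat.coprime_two_right.2 (hodd.mul hO)).pow_right s)
    (orderOf_dvd_of_pow_eq_one h3) (orderOf_dvd_of_pow_eq_one h2))

/-- the product of `e` and its conjugate has odd order -/
def Good (e g : G) : Prop := Odd (orderOf (e * g * e * g⁻¹))

theorem good_one {e : G} (he : e * e = 1) : Good e 1 := by
  unfold Good
  rw [mul_one, inv_one, mul_one, he, orderOf_one]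
  exact odd_one

theorem good_mul_centralizer {e g d : G} (hd : Commute e d) : Good e (g * d) ↔ Good e g := by
  unfold Good
  rw [show e * (g * d) * e * (g * d)⁻¹ = e * g * (d * e * d⁻¹) * g⁻¹ by group, ← hd.eq,
    mul_inv_cancel_right]

theorem good_centralizer_mul {e d g : G} (hd : Commute e d) : Good e (d * g) ↔ Good e g := by
  unfold Good
  rw [show e * (d * g) * e * (d * g)⁻¹ = (e * d) * g * e * g⁻¹ * d⁻¹ by group, hd.eq,
    show d * e * g * e * g⁻¹ * d⁻¹ = d * (e * g * e * g⁻¹) * d⁻¹ by group,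
    Cfsg.Lib.Isolated.orderOf_conj']

/-- the odd signalizers of `H` without fixed points -/
structure Sig (H O : Subgroup G) : Prop where
  odd : Odd (Nat.card O)
  norm : ∀ h ∈ H, ∀ x ∈ O, h * x * h⁻¹ ∈ O
  free : ∀ x ∈ O, (∀ h ∈ H, h * x = x * h) → x = 1

theorem Sig.mono {H O P : Subgroup G} (hO : Sig H O) (hP : P ≤ O)
    (hn : ∀ h ∈ H, ∀ x ∈ P, h * x * h⁻¹ ∈ P) : Sig H P :=
  ⟨hO.odd.of_dvd_nat (card_dvd_of_le hP), hn, fun x hx => hO.free x (hP hx)⟩

/-- the conclusion, inside a subgroup -/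
def Local (H K : Subgroup G) : Prop := ∀ g ∈ K, ∃ t ∈ core K, t⁻¹ * g ∈ normalizer (H : Set G)

/-- invariant odd subgroups without fixed points lie in the core -/
theorem absorb {H O K : Subgroup G} (hH2 : IsPGroup 2 H) (hab : ∀ x ∈ H, ∀ y ∈ H, x * y = y * x)
    (hHK : H ≤ K) (hK : Local H K) (hO : Sig H O) (hOK : O ≤ K) : O ≤ core K := by
  intro k hk
  obtain ⟨t, ht, hm⟩ := hK k (hOK hk)
  set m := t⁻¹ * k
  set D := O ⊓ core K
  have hmK : m ∈ K := mul_mem (inv_mem (core_le K ht)) (hOK hk)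
  have hHD : H ≤ normalizer (D : Set G) := fun h hh => mem_normalizer_of_maps fun x hx =>
    ⟨hO.norm h hh x hx.1, conj_mem_core (hHK hh) hx.2⟩
  have hcop : (Nat.card H).Coprime (Nat.card D) := by
    obtain ⟨n, hn⟩ := IsPGroup.iff_card.1 hH2
    rw [hn]
    exact (Nat.coprime_two_left.2 (hO.odd.of_dvd_nat (card_dvd_of_le inf_le_left))).pow_left n
  have hk' : ∀ h ∈ H, k⁻¹ * h * k * h⁻¹ ∈ D := by
    intro h hh
    have hy : k⁻¹ * h * k * h⁻¹ ∈ O := by
      rw [show k⁻¹ * h * k * h⁻¹ = k⁻¹ * (h * k * h⁻¹) by group]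
      exact mul_mem (inv_mem hk) (hO.norm h hh k hk)
    refine ⟨hy, ?_⟩
    set h' := m⁻¹ * h * m * h⁻¹
    set w := h * (m⁻¹ * ((h⁻¹ * t⁻¹ * h) * t) * m) * h⁻¹
    have hyw : k⁻¹ * h * k * h⁻¹ = h' * w := by simp only [h', w, m]; group
    have hw : w ∈ core K := by
      refine conj_mem_core (hHK hh) ?_
      have h1 : h⁻¹ * t⁻¹ * h ∈ core K := by
        have := conj_mem_core (inv_mem (hHK hh)) (inv_mem ht)
        rwa [inv_inv] at this
      have := conj_mem_core (inv_mem hmK) (mul_mem h1 ht)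
      rwa [inv_inv] at this
    have hh' : h' ∈ H := by
      refine mul_mem ?_ (inv_mem hh)
      have := (Subgroup.mem_normalizer_iff.1 (inv_mem hm) h).1 hh
      rwa [inv_inv] at this
    obtain ⟨s, hs⟩ := hH2 ⟨h', hh'⟩
    have h1 : h' = 1 := eq_one_of_mul_odd (odd_core K) (fun x hx => conj_mem_core (hHK hh') hx) hw
      (congrArg Subtype.val hs) (hyw ▸ odd_orderOf_of_mem hO.odd hy)
    show _ ∈ core K
    rw [hyw, h1, one_mul]
    exact hw
  obtain ⟨d, hd, hc⟩ := Cfsg.Lib.Coprime.exists_fixed_in_coset hHD hcop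
    (Or.inl (Group.isSolvable_of_comm fun x y => Subtype.ext (hab x x.2 y y.2))) hk'
  have h1 : k * d = 1 :=
    hO.free _ (mul_mem hk hd.1) fun h hh => (mem_centralizer_iff.1 hc) h hh
  rw [eq_inv_of_mul_eq_one_left h1]
  exact inv_mem hd.2

/-- the hypotheses -/
structure Hyp (H : Subgroup G) : Prop where
  two : IsPGroup 2 H
  comm : ∀ x ∈ H, ∀ y ∈ H, x * y = y * x
  closed : ∀ g : G, ∀ x ∈ H ⊔ H.map (MulAut.conj g).toMonoidHom, x ∈ normalizer (H : Set G) → x ∈ H

theorem Hyp.decomp {H : Subgroup G} (hH : Hyp H) (g : G) :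
    ∃ O, Sig H O ∧ ∃ o ∈ O, o⁻¹ * g ∈ normalizer (H : Set G) := by
  haveI : Fact (Nat.Prime 2) := ⟨Nat.prime_two⟩
  set X := H ⊔ H.map (MulAut.conj g).toMonoidHom
  have hHX : H ≤ X := le_sup_left
  set H' := H.subgroupOf X
  have hH' : IsPGroup 2 H' :=
    hH.two.of_injective (subgroupOfEquivOfLe hHX).toMonoidHom (MulEquiv.injective _)
  have hnorm : ∀ x : X, x ∈ normalizer (H' : Set X) → x ∈ H' := fun x hx =>
    hH.closed g x x.2 (mem_normalizer_of_maps fun a ha =>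
      (Subgroup.mem_normalizer_iff.1 hx ⟨a, hHX ha⟩).1 ha)
  obtain ⟨P, hP⟩ := hH'.exists_le_sylow
  have hPe : (P : Subgroup X) = H' := by
    refine le_antisymm ?_ hP
    by_contra hne
    haveI := P.isPGroup'.isNilpotent
    have hlt : H'.subgroupOf (P : Subgroup X) < ⊤ :=
      lt_top_iff_ne_top.2 fun h => hne (subgroupOf_eq_top.1 h)
    obtain ⟨x, hx, hxQ⟩ := SetLike.exists_of_lt (Group.normalizerCondition_of_isNilpotent _ hlt)
    exact hxQ (hnorm _ (mem_normalizer_of_maps fun a ha =>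
      (Subgroup.mem_normalizer_iff.1 hx ⟨a, hP ha⟩).1 ha))
  have hPc : normalizer ((P : Subgroup X) : Set X) ≤ centralizer ((P : Subgroup X) : Set X) := by
    rw [hPe]
    exact fun x hx => mem_centralizer_iff.2 fun y hy =>
      Subtype.ext (hH.comm y hy x (hnorm x hx))
  obtain ⟨K, hKn, hcompl, hKodd⟩ : ∃ K : Subgroup X, K.Normal ∧
      Subgroup.IsComplement' K (P : Subgroup X) ∧ Odd (Nat.card K) :=
    ⟨_, MonoidHom.normal_ker _, MonoidHom.ker_transferSylow_isComplement' P hPc,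
      Nat.odd_iff.2 (Nat.two_dvd_ne_zero.1 (MonoidHom.not_dvd_card_ker_transferSylow P hPc))⟩
  refine ⟨K.map X.subtype, ⟨?_, ?_, ?_⟩, ?_⟩
  · rwa [card_map_of_injective X.subtype_injective]
  · rintro h hh _ ⟨y, hy, rfl⟩
    exact ⟨⟨h, hHX hh⟩ * y * ⟨h, hHX hh⟩⁻¹, hKn.conj_mem y hy _, rfl⟩
  · rintro _ ⟨y, hy, rfl⟩ hc
    have h1 : y ∈ (P : Subgroup X) := by
      rw [hPe]
      refine hH.closed g _ y.2 (mem_normalizer_of_maps fun a ha => ?_)
      rw [← hc a ha, mul_inv_cancel_right]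
      exact ha
    have h2 : y ∈ K ⊓ (P : Subgroup X) := ⟨hy, h1⟩
    rw [hcompl.disjoint.eq_bot, mem_bot] at h2
    rw [h2, map_one]
  -- the conjugate of `H`
  have hgX : ∀ a ∈ H, g * a * g⁻¹ ∈ X := fun a ha => mem_sup_right ⟨a, ha, rfl⟩
  obtain ⟨S, hS⟩ := ((hH.two.map (MulAut.conj g).toMonoidHom).of_injective
    (subgroupOfEquivOfLe (le_sup_right : H.map (MulAut.conj g).toMonoidHom ≤ X)).toMonoidHom
    (MulEquiv.injective _)).exists_le_sylow
  obtain ⟨k, hk⟩ := MulAction.exists_smul_eq X P S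
  obtain ⟨⟨⟨o, ho⟩, ⟨p, hp⟩⟩, hop⟩ := hcompl.surjective k
  refine ⟨o, ⟨o, ho, rfl⟩, mem_normalizer_of_maps fun a ha => ?_⟩
  have h1 : (⟨g * a * g⁻¹, hgX a ha⟩ : X) ∈ (S : Subgroup X) := hS ⟨a, ha, rfl⟩
  rw [← hk, Sylow.coe_subgroup_smul, Subgroup.mem_pointwise_smul_iff_inv_smul_mem] at h1
  have h2 : k⁻¹ * ⟨g * a * g⁻¹, hgX a ha⟩ * k ∈ (P : Subgroup X) := by
    rwa [← map_inv, MulAut.smul_def, MulAut.conj_apply, inv_inv] at h1
  have h3 := mul_mem (mul_mem hp h2) (inv_mem hp)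
  rw [hPe] at h3
  have e : (o : G)⁻¹ * g * a * ((o : G)⁻¹ * g)⁻¹ =
      ((p * (k⁻¹ * ⟨g * a * g⁻¹, hgX a ha⟩ * k) * p⁻¹ : X) : G) := by
    simp only [← hop, Subgroup.coe_mul, InvMemClass.coe_inv]
    group
  rw [e]
  exact h3

/-- recognition of the conjugating part -/
theorem good_iff {H O : Subgroup G} (hH : Hyp H) (hO : Sig H O) {o n e : G} (ho : o ∈ O)
    (hn : n ∈ normalizer (H : Set G)) (he : e ∈ H) (he2 : e * e = 1) :
    Good e (o * n) ↔ n * e * n⁻¹ = e := by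
  unfold Good
  rw [show e * (o * n) * e * (o * n)⁻¹ = e * o * (n * e * n⁻¹) * o⁻¹ by group]
  set e' := n * e * n⁻¹
  have he' : e' ∈ H := (Subgroup.mem_normalizer_iff.1 hn e).1 he
  have he'2 : e' * e' = 1 := by
    simp only [e', show n * e * n⁻¹ * (n * e * n⁻¹) = n * (e * e) * n⁻¹ by group, he2]; group
  constructor
  · intro hodd
    have hw : e'⁻¹ * o * e' * o⁻¹ ∈ O := by
      refine mul_mem ?_ (inv_mem ho)
      have := hO.norm _ (inv_mem he') o ho
      rwa [inv_inv] at this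
    rw [show e * o * e' * o⁻¹ = (e * e') * (e'⁻¹ * o * e' * o⁻¹) by group] at hodd
    have h1 : e * e' = 1 := eq_one_of_mul_odd hO.odd (hO.norm _ (mul_mem he he')) hw (s := 1) (by
      rw [pow_one, pow_two, mul_assoc, ← mul_assoc e' e e', ← hH.comm e he e' he', mul_assoc e e' e',
        he'2, mul_one, he2]) hodd
    rw [← inv_eq_of_mul_eq_one_right h1, inv_self he2]
  · intro h
    rw [h]
    refine odd_orderOf_of_mem hO.odd (mul_mem ?_ (inv_mem ho))
    have := hO.norm e he o ho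
    rwa [inv_self he2] at this

theorem fix_mul {n e f : G} (he : n * e * n⁻¹ = e) (hf : n * f * n⁻¹ = f) :
    n * (e * f) * n⁻¹ = e * f := by
  calc n * (e * f) * n⁻¹ = n * e * n⁻¹ * (n * f * n⁻¹) := by group
    _ = _ := by rw [he, hf]

/-- the involutions of `H` and the cores of their centralisers -/
abbrev th (e : G) : Subgroup G := core (centralizer ({e} : Set G))

theorem commute_th {e x : G} (hx : x ∈ th e) : Commute e x :=
  (mem_centralizer_singleton_iff.1 (core_le _ hx)).symm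

theorem le_cent {H : Subgroup G} (hH : Hyp H) {e : G} (he : e ∈ H) :
    H ≤ centralizer ({e} : Set G) :=
  fun x hx => mem_centralizer_singleton_iff.2 (hH.comm x hx e he)

theorem mem_th_of_fix {e n x : G} (hn : n * e * n⁻¹ = e) (hx : x ∈ th e) : n * x * n⁻¹ ∈ th e :=
  conj_mem_core (mem_centralizer_singleton_iff.2 (mul_inv_eq_iff_eq_mul.1 hn)) hx

/-- all three products are odd -/
def Good3 (p q g : G) : Prop := Good p g ∧ Good q g ∧ Good (p * q) g

section
variable {H : Subgroup G} (hH : Hyp H)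
  (hloc : ∀ e ∈ H, e ≠ 1 → e * e = 1 → Local H (centralizer ({e} : Set G)))

include hH in
theorem good_th {p e x : G} (hp : p ∈ H) (he : e ∈ H) (he2 : e * e = 1) (hx : x ∈ th p) :
    Good e x := by
  refine odd_orderOf_of_mem (odd_core _) (mul_mem ?_ (inv_mem hx))
  have := mem_th_of_fix (n := e) (by rw [hH.comm e he p hp, mul_inv_cancel_right]) hx
  rwa [inv_self he2] at this

include hH in
theorem good3_of_two {p q g : G} (hp : p ∈ H) (hp2 : p * p = 1) (hq : q ∈ H) (hq2 : q * q = 1)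
    (h1 : Good p g) (h2 : Good q g) : Good3 p q g := by
  refine ⟨h1, h2, ?_⟩
  obtain ⟨O, hO, o, ho, hn⟩ := hH.decomp g
  set n := o⁻¹ * g
  rw [show g = o * n by simp only [n]; group] at h1 h2 ⊢
  rw [good_iff hH hO ho hn hp hp2] at h1
  rw [good_iff hH hO ho hn hq hq2] at h2
  refine (good_iff hH hO ho hn (mul_mem hp hq) ?_).2 (fix_mul h1 h2)
  rw [mul_assoc, ← mul_assoc q p q, ← hH.comm p hp q hq, mul_assoc p q q, hq2, mul_one, hp2]

include hH in
/-- two factors -/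
theorem good_pair {p q x y : G} (hp : p ∈ H) (hp2 : p * p = 1) (hq : q ∈ H) (hq2 : q * q = 1)
    (hx : x ∈ th p) (hy : y ∈ th q) : Good3 p q (x * y) :=
  good3_of_two hH hp hp2 hq hq2
    ((good_centralizer_mul (commute_th hx)).2 (good_th hH hq hp hp2 hy))
    ((good_mul_centralizer (commute_th hy)).2 (good_th hH hp hq hq2 hx))

include hH in
theorem fix_of_good {g p n : G} (hp : p ∈ H) (hp2 : p * p = 1) (hn : n ∈ normalizer (H : Set G))
    (h1 : Good p g) (h2 : Good p (g * n)) : n * p * n⁻¹ = p := by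
  obtain ⟨O, hO, o, ho, hm⟩ := hH.decomp g
  set m := o⁻¹ * g
  rw [show g = o * m by simp only [m]; group] at h1 h2
  rw [good_iff hH hO ho hm hp hp2] at h1
  rw [mul_assoc, good_iff hH hO ho (mul_mem hm hn) hp hp2] at h2
  calc n * p * n⁻¹ = m⁻¹ * (m * n * p * (m * n)⁻¹) * m := by group
    _ = m⁻¹ * (m * p * m⁻¹) * m := by rw [h2, h1]
    _ = p := by group

include hH in
theorem good_mul_fix {g p n : G} (hp : p ∈ H) (hp2 : p * p = 1) (hn : n ∈ normalizer (H : Set G))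
    (h1 : Good p g) (h2 : n * p * n⁻¹ = p) : Good p (g * n) := by
  obtain ⟨O, hO, o, ho, hm⟩ := hH.decomp g
  set m := o⁻¹ * g
  rw [show g = o * m by simp only [m]; group] at h1 ⊢
  rw [good_iff hH hO ho hm hp hp2] at h1
  rw [mul_assoc, good_iff hH hO ho (mul_mem hm hn) hp hp2]
  calc m * n * p * (m * n)⁻¹ = m * (n * p * n⁻¹) * m⁻¹ := by group
    _ = p := by rw [h2, h1]

include hH hloc in
/-- factorisation of a signalizer -/
theorem sig_factor {O : Subgroup G} (hO : Sig H O) {p q x : G} (hp : p ∈ H) (hp1 : p ≠ 1)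
    (hp2 : p * p = 1) (hq : q ∈ H) (hq1 : q ≠ 1) (hq2 : q * q = 1) (hpq : p ≠ q) (hx : x ∈ O) :
    ∃ u ∈ th p, ∃ y ∈ th q, ∃ z ∈ th (p * q), x = u * y * z := by
  have hc : ∀ e ∈ H, e ≠ 1 → e * e = 1 → ∀ v ∈ O, Commute e v → v ∈ th e := by
    intro e he he1 he2 v hv hev
    refine absorb hH.two hH.comm (le_cent hH he) (hloc e he he1 he2)
      (hO.mono (P := O ⊓ centralizer ({e} : Set G)) inf_le_left fun h hh y hy => ?_) inf_le_right
      ⟨hv, mem_centralizer_singleton_iff.2 hev.symm.eq⟩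
    obtain ⟨hy1, hy2⟩ := Subgroup.mem_inf.1 hy
    exact Subgroup.mem_inf.2 ⟨hO.norm h hh y hy1,
      mul_mem (mul_mem (le_cent hH he hh) hy2) (inv_mem (le_cent hH he hh))⟩
  have hab : Commute p q := hH.comm p hp q hq
  have hpq2 : p * q * (p * q) = 1 := by
    rw [mul_assoc, ← mul_assoc q p q, ← hab.eq, mul_assoc p q q, hq2, mul_one, hp2]
  have hpq1 : p * q ≠ 1 := fun h => hpq (by rw [← inv_eq_of_mul_eq_one_right h, inv_self hp2])
  obtain ⟨u, hu, y, hy, z, hz, h1, h2, h3, he⟩ := four_factor hp2 hq2 hab hO.odd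
    (Cfsg.Agent.PF.isSolvable_of_odd O hO.odd) (hO.norm p hp) (hO.norm q hq) hx
  exact ⟨u, hc p hp hp1 hp2 u hu h1, y, hc q hq hq1 hq2 y hy h2,
    z, hc _ (mul_mem hp hq) hpq1 hpq2 z hz h3, he⟩

include hH hloc in
/-- three factors -/
theorem good_triple {p q x y z : G} (hp : p ∈ H) (hp1 : p ≠ 1) (hp2 : p * p = 1) (hq : q ∈ H)
    (hq1 : q ≠ 1) (hq2 : q * q = 1) (hpq : p ≠ q) (hx : x ∈ th p) (hy : y ∈ th q)
    (hz : z ∈ th (p * q)) : Good3 p q (x * y * z) := by
  have hab : Commute p q := hH.comm p hp q hq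
  have hr2 : p * q * (p * q) = 1 := by
    rw [mul_assoc, ← mul_assoc q p q, ← hab.eq, mul_assoc p q q, hq2, mul_one, hp2]
  have hr : p * q ∈ H := mul_mem hp hq
  have hgr : Good (p * q) (x * y * z) :=
    (good_mul_centralizer (commute_th hz)).2 (good_pair hH hp hp2 hq hq2 hx hy).2.2
  obtain ⟨O, hO, o, ho, hn⟩ := hH.decomp (x * y * z)
  set n := o⁻¹ * (x * y * z) with hndef
  have hg : x * y * z = o * n := by rw [hndef]; group
  rw [hg] at hgr ⊢
  rw [good_iff hH hO ho hn hr hr2] at hgr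
  obtain ⟨u, hu, y', hy', z', hz', rfl⟩ := sig_factor hH hloc hO hp hp1 hp2 hq hq1 hq2 hpq ho
  -- the two pair products
  set z₄ := z' * (n * z⁻¹ * n⁻¹)
  have hz₄ : z₄ ∈ th (p * q) := mul_mem hz' (mem_th_of_fix hgr (inv_mem hz))
  have hk : u⁻¹ * x * y = y' * z₄ * n := by
    calc u⁻¹ * x * y = u⁻¹ * (x * y * z) * z⁻¹ := by group
      _ = u⁻¹ * (u * y' * z' * n) * z⁻¹ := by rw [hg]
      _ = _ := by simp only [z₄]; group
  obtain ⟨k1, k2, -⟩ := good_pair hH hp hp2 hq hq2 (mul_mem (inv_mem hu) hx) hy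
  obtain ⟨w1, w2, w3⟩ := good_pair hH hq hq2 hr hr2 hy' hz₄
  have hqr : q * (p * q) = p := by
    rw [← mul_assoc, ← hab.eq, mul_assoc, hq2, mul_one]
  rw [hqr] at w3
  rw [hk] at k1 k2
  have hnp := fix_of_good hH hp hp2 hn w3 k1
  have hnq := fix_of_good hH hq hq2 hn w1 k2
  exact ⟨(good_iff hH hO ho hn hp hp2).2 hnp, (good_iff hH hO ho hn hq hq2).2 hnq,
    (good_iff hH hO ho hn hr hr2).2 hgr⟩

include hH hloc in
/-- right multiplication by the third core -/
theorem good3_mul {p q g z : G} (hp : p ∈ H) (hp1 : p ≠ 1) (hp2 : p * p = 1) (hq : q ∈ H)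
    (hq1 : q ≠ 1) (hq2 : q * q = 1) (hpq : p ≠ q) (hg : Good3 p q g) (hz : z ∈ th (p * q)) :
    Good3 p q (g * z) := by
  obtain ⟨O, hO, o, ho, hn⟩ := hH.decomp g
  set n := o⁻¹ * g with hndef
  have hgo : g = o * n := by rw [hndef]; group
  rw [hgo] at hg ⊢
  obtain ⟨h1, h2, -⟩ := hg
  rw [good_iff hH hO ho hn hp hp2] at h1
  rw [good_iff hH hO ho hn hq hq2] at h2
  obtain ⟨u, hu, y, hy, z', hz', rfl⟩ := sig_factor hH hloc hO hp hp1 hp2 hq hq1 hq2 hpq ho
  rw [show u * y * z' * n * z = u * y * (z' * (n * z * n⁻¹)) * n by group]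
  obtain ⟨t1, t2, -⟩ := good_triple hH hloc hp hp1 hp2 hq hq1 hq2 hpq hu hy
    (mul_mem hz' (mem_th_of_fix (fix_mul h1 h2) hz))
  exact good3_of_two hH hp hp2 hq hq2 (good_mul_fix hH hp hp2 hn t1 h1)
    (good_mul_fix hH hq hq2 hn t2 h2)

include hH hloc in
/-- the subgroup generated by the cores and the centraliser of the four-group consists of good elements -/
theorem good_closure {a b : G} (ha : a ∈ H) (ha1 : a ≠ 1) (ha2 : a * a = 1) (hb : b ∈ H)
    (hb1 : b ≠ 1) (hb2 : b * b = 1) (hne : a ≠ b) {g : G}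
    (hg : g ∈ Subgroup.closure ((th a : Set G) ∪ th b ∪ th (a * b) ∪
      (centralizer ({a} : Set G) ⊓ centralizer ({b} : Set G) : Subgroup G))) : Good3 a b g := by
  set S := (th a : Set G) ∪ th b ∪ th (a * b) ∪
      (centralizer ({a} : Set G) ⊓ centralizer ({b} : Set G) : Subgroup G)
  have hab : Commute a b := hH.comm a ha b hb
  have hc : a * b ∈ H := mul_mem ha hb
  have hc2 : a * b * (a * b) = 1 := by
    rw [mul_assoc, ← mul_assoc b a b, ← hab.eq, mul_assoc a b b, hb2, mul_one, ha2]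
  have hc1 : a * b ≠ 1 := fun h => hne (by rw [← inv_eq_of_mul_eq_one_right h, inv_self ha2])
  have e1 : b * (a * b) = a := by rw [← mul_assoc, ← hab.eq, mul_assoc, hb2, mul_one]
  have e2 : a * (a * b) = b := by rw [← mul_assoc, ha2, one_mul]
  have hstep : ∀ g z, Good3 a b g → z ∈ S → Good3 a b (g * z) := by
    rintro g z ⟨g1, g2, g3⟩ (((hz | hz) | hz) | hz)
    · obtain ⟨r1, -, r3⟩ := good3_mul hH hloc hb hb1 hb2 hc hc1 hc2
        (fun h => ha1 (by simpa using h)) (g := g) ⟨g2, g3, e1.symm ▸ g1⟩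
        (z := z) (by rwa [e1])
      rw [e1] at r3
      exact good3_of_two hH ha ha2 hb hb2 r3 r1
    · obtain ⟨r1, -, r3⟩ := good3_mul hH hloc ha ha1 ha2 hc hc1 hc2
        (fun h => hb1 (by simpa using h)) (g := g) ⟨g1, g3, e2.symm ▸ g2⟩
        (z := z) (by rwa [e2])
      rw [e2] at r3
      exact good3_of_two hH ha ha2 hb hb2 r1 r3
    · exact good3_mul hH hloc ha ha1 ha2 hb hb1 hb2 hne ⟨g1, g2, g3⟩ hz
    · exact good3_of_two hH ha ha2 hb hb2
        ((good_mul_centralizer (mem_centralizer_singleton_iff.1 hz.1).symm).2 g1)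
        ((good_mul_centralizer (mem_centralizer_singleton_iff.1 hz.2).symm).2 g2)
  refine Subgroup.closure_induction_right ⟨good_one ha2, good_one hb2, good_one hc2⟩
    (fun x _ y hy hx => hstep x y hx hy) (fun x _ y hy hx => hstep x _ hx ?_) hg
  rcases hy with ((hy | hy) | hy) | hy
  · exact Or.inl (Or.inl (Or.inl (inv_mem hy)))
  · exact Or.inl (Or.inl (Or.inr (inv_mem hy)))
  · exact Or.inl (Or.inr (inv_mem hy))
  · exact Or.inr (Subgroup.inv_mem _ hy)

include hH hloc in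
/-- a good involution gives the factorisation -/
theorem of_good_all {a : G} (ha : a ∈ H) (ha1 : a ≠ 1) (ha2 : a * a = 1) (hgood : ∀ g, Good a g)
    (g : G) : g ∈ normalizer (H : Set G) ⊔ Cfsg.oddCore G := by
  have hord : orderOf a = 2 := orderOf_eq_prime (by rw [pow_two, ha2]) ha1
  have hiso : Cfsg.IsIsolatedInvolution a := by
    refine ⟨hord, fun g hc => ?_⟩
    have hodd : Odd (orderOf (a * (g * a * g⁻¹))) := by
      rw [show a * (g * a * g⁻¹) = a * g * a * g⁻¹ by group]; exact hgood g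
    have hc' : Commute a (g * a * g⁻¹) := hc
    have h1 : a * (g * a * g⁻¹) * (a * (g * a * g⁻¹)) = 1 := by
      rw [mul_assoc, ← mul_assoc (g * a * g⁻¹) a, ← hc'.eq, mul_assoc a (g * a * g⁻¹),
        show g * a * g⁻¹ * (g * a * g⁻¹) = g * (a * a) * g⁻¹ by group, ha2, mul_one, mul_inv_cancel,
        mul_one, ha2]
    rw [← inv_eq_of_mul_eq_one_right (eq_one_of_sq hodd h1), inv_self ha2]
  set N := Cfsg.pPrimeCore 2 G
  have hz := Cfsg.Lib.ZStarApps.zstarProp hiso
  have hcop : (Nat.card (zpowers a)).Coprime (Nat.card N) := by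
    rw [Nat.card_zpowers, hord]
    exact Nat.coprime_two_left.2 Cfsg.Lib.ZStarApps.odd_card_pPrimeCore
  have hfix : ∀ g : G, ∀ e ∈ zpowers a, e * g * e⁻¹ * g⁻¹ ∈ N := by
    rintro g e ⟨i, rfl⟩
    show a ^ i * g * (a ^ i)⁻¹ * g⁻¹ ∈ N
    rw [← zpow_mod_orderOf, hord]
    rcases Int.emod_two_eq_zero_or_one i with h | h <;> simp only [Nat.cast_ofNat, h]
    · simp
    · simpa using hz g
  have hC : ∀ g : G, ∃ m ∈ N, g * m ∈ centralizer ({a} : Set G) := fun g => by
    obtain ⟨m, hm, hmc⟩ := Cfsg.Lib.Coprime.exists_fixed_of_commutator_mem (A := zpowers a) (N := N)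
      (fun e _ => by simp [normalizer_eq_top]) hcop
      (Or.inl (Group.isSolvable_of_comm fun p r => by
        obtain ⟨i, hi⟩ := p.2; obtain ⟨l, hl⟩ := r.2
        exact Subtype.ext (by
          rw [Subgroup.coe_mul, Subgroup.coe_mul, ← hi, ← hl]; exact zpow_mul_comm a i l)))
      (k := g) (by simp [normalizer_eq_top]) (hfix g)
    exact ⟨m, hm, mem_centralizer_singleton_iff.2 (mem_centralizer_iff.1 hmc a (mem_zpowers a)).symm⟩
  set M := N ⊔ th a
  have hMn : M.Normal := by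
    refine normalizer_eq_top_iff.1 (eq_top_iff.2 fun g _ => ?_)
    obtain ⟨m, hm, hc⟩ := hC g
    rw [show g = g * m * m⁻¹ by group]
    refine mul_mem (mem_normalizer_of_maps fun x hx => ?_)
      (inv_mem (le_normalizer (mem_sup_left hm)))
    rw [← SetLike.mem_coe, Subgroup.normal_mul] at hx ⊢
    obtain ⟨v, hv, t, ht, rfl⟩ := hx
    refine ⟨g * m * v * (g * m)⁻¹, (inferInstance : N.Normal).conj_mem v hv _,
      g * m * t * (g * m)⁻¹, conj_mem_core hc ht, by group⟩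
  have hModd : Odd (Nat.card M) :=
    (Cfsg.Lib.ZStarApps.odd_card_pPrimeCore.mul (odd_core _)).of_dvd_nat
      (Cfsg.Lib.Components.card_sup_dvd_mul N (th a))
  have hMle : M ≤ Cfsg.oddCore G :=
    Cfsg.Lib.Components.le_pPrimeCore (hn := hMn) (Nat.coprime_two_right.2 hModd)
  obtain ⟨m, hm, hc⟩ := hC g
  obtain ⟨t, ht, hn⟩ := hloc a ha ha1 ha2 _ hc
  rw [show g = t * (t⁻¹ * (g * m)) * m⁻¹ by group]
  exact mul_mem (mul_mem (mem_sup_right (hMle (mem_sup_right ht))) (mem_sup_left hn))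
    (inv_mem (mem_sup_right hm))

end

/-- if all signalizers lie in an odd subgroup, the factorisation holds -/
theorem of_sig_bound {H : Subgroup G} (hH : Hyp H) {B : Subgroup G} (hB : Odd (Nat.card B))
    (hle : ∀ O, Sig H O → O ≤ B) (g : G) : g ∈ normalizer (H : Set G) ⊔ Cfsg.oddCore G := by
  set U := sSup {O | Sig H O}
  have hmem : ∀ g : G, ∃ o ∈ U, o⁻¹ * g ∈ normalizer (H : Set G) := fun g => by
    obtain ⟨O, hO, o, ho, hn⟩ := hH.decomp g
    exact ⟨o, (le_sSup hO : O ≤ U) ho, hn⟩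
  have hN : ∀ n ∈ normalizer (H : Set G), ∀ x ∈ U, n * x * n⁻¹ ∈ U := by
    intro n hn
    suffices U ≤ U.comap (MulAut.conj n).toMonoidHom from fun x hx => this hx
    refine sSup_le fun O hO => ?_
    rw [← map_le_iff_le_comap]
    refine le_sSup (⟨?_, ?_, ?_⟩ : Sig H (O.map (MulAut.conj n).toMonoidHom))
    · rw [card_map_of_injective (MulAut.conj n).injective]; exact hO.odd
    · rintro h hh _ ⟨x, hx, rfl⟩
      have h1 : n⁻¹ * h * n ∈ H := by
        have := (Subgroup.mem_normalizer_iff.1 (inv_mem hn) h).1 hh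
        rwa [inv_inv] at this
      refine ⟨n⁻¹ * h * n * x * (n⁻¹ * h * n)⁻¹, hO.norm _ h1 x hx, ?_⟩
      simp only [MulEquiv.coe_toMonoidHom, MulAut.conj_apply]; group
    · rintro _ ⟨x, hx, rfl⟩ hc
      have h1 : x = 1 := hO.free x hx fun h hh => by
        have h2 := hc _ ((Subgroup.mem_normalizer_iff.1 hn h).1 hh)
        simp only [MulEquiv.coe_toMonoidHom, MulAut.conj_apply] at h2
        calc h * x = n⁻¹ * (n * h * n⁻¹ * (n * x * n⁻¹)) * n := by group
          _ = x * h := by rw [h2]; group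
      rw [h1, map_one]
  have hUn : U.Normal := by
    refine normalizer_eq_top_iff.1 (eq_top_iff.2 fun g _ => ?_)
    obtain ⟨o, ho, hn⟩ := hmem g
    rw [show g = o * (o⁻¹ * g) by group]
    exact mul_mem (le_normalizer ho) (mem_normalizer_of_maps (hN _ hn))
  have hUle : U ≤ Cfsg.oddCore G := Cfsg.Lib.Components.le_pPrimeCore (hn := hUn)
    (Nat.coprime_two_right.2 (hB.of_dvd_nat (card_dvd_of_le (sSup_le hle))))
  obtain ⟨o, ho, hn⟩ := hmem g
  rw [show g = o * (o⁻¹ * g) by group]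
  exact mul_mem (mem_sup_right (hUle ho)) (mem_sup_left hn)

theorem local_of_sup {H : Subgroup G} (h : ∀ g : G, g ∈ normalizer (H : Set G) ⊔ Cfsg.oddCore G) (g : G) :
    ∃ t ∈ Cfsg.oddCore G, t⁻¹ * g ∈ normalizer (H : Set G) := by
  have hg : g ∈ Cfsg.oddCore G ⊔ normalizer (H : Set G) := by rw [sup_comm]; exact h g
  rw [← SetLike.mem_coe, Subgroup.normal_mul] at hg
  obtain ⟨t, ht, n, hn, rfl⟩ := hg
  exact ⟨t, ht, by simpa using hn⟩

/-- a central extension by an involution has no new odd quotient core -/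
theorem le_sup_oddCore {a : G} (ha : orderOf a = 2) (hac : ∀ g, Commute a g) {L : Subgroup G}
    [L.Normal] (haL : a ∈ L) (hidx : Odd ((zpowers a).relIndex L)) :
    L ≤ zpowers a ⊔ Cfsg.oddCore G := by
  have hle : zpowers a ≤ L := zpowers_le.2 haL
  haveI : ((zpowers a).subgroupOf L).Normal := ⟨fun x hx g => by
    rw [mem_subgroupOf] at hx ⊢
    obtain ⟨i, hi⟩ := hx
    refine ⟨i, ?_⟩
    simp only [Subgroup.coe_mul, InvMemClass.coe_inv, ← hi]
    rw [← ((hac (g : G)).zpow_left i).eq, mul_inv_cancel_right]⟩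
  have hc2 : Nat.card ((zpowers a).subgroupOf L) = 2 := by
    rw [Nat.card_congr (subgroupOfEquivOfLe hle).toEquiv, Nat.card_zpowers, ha]
  obtain ⟨W, hW⟩ := exists_right_complement'_of_coprime (N := (zpowers a).subgroupOf L)
    (by rw [hc2]; exact Nat.coprime_two_left.2 hidx)
  have hWodd : Odd (Nat.card W) := by
    have := hW.symm.index_eq_card
    rw [← this]; exact hidx
  have hmemW : ∀ x : L, Odd (orderOf x) → x ∈ W := by
    intro x hx
    obtain ⟨⟨⟨c, hc⟩, ⟨w, hw⟩⟩, rfl⟩ := hW.surjective x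
    have hc' : c * c = 1 := by
      have := congrArg Subtype.val (pow_card_eq_one' (G := (zpowers a).subgroupOf L) (x := ⟨c, hc⟩))
      rw [hc2, pow_two] at this
      exact this
    have hcw : Commute c w := by
      refine Subtype.ext ?_
      obtain ⟨i, hi⟩ := mem_subgroupOf.1 hc
      simp only [Subgroup.coe_mul, ← hi]
      exact ((hac (w : G)).zpow_left i).eq
    have h1 : (c * w) ^ (orderOf (c * w) * Nat.card W) = 1 := by
      rw [pow_mul, pow_orderOf_eq_one, one_pow]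
    rw [hcw.mul_pow] at h1
    have hw1 : w ^ (orderOf (c * w) * Nat.card W) = 1 := by
      have h4 : (⟨w, hw⟩ : W) ^ Nat.card W = 1 := pow_card_eq_one'
      have h5 : w ^ Nat.card W = 1 := congrArg Subtype.val h4
      rw [mul_comm, pow_mul, h5, one_pow]
    rw [hw1, mul_one] at h1
    obtain ⟨k, hk⟩ := hx.mul hWodd
    rw [hk, pow_succ, pow_mul, pow_two, hc', one_pow, one_mul] at h1
    show c * w ∈ W
    rwa [h1, one_mul]
  set W' := W.map L.subtype
  have hW'n : W'.Normal := ⟨fun x hx g => by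
    obtain ⟨w, hw, rfl⟩ := hx
    have hL : g * (w : G) * g⁻¹ ∈ L := (inferInstance : L.Normal).conj_mem _ w.2 g
    refine ⟨⟨_, hL⟩, hmemW _ ?_, rfl⟩
    rw [← Subgroup.orderOf_coe]
    show Odd (orderOf (g * (w : G) * g⁻¹))
    rw [Cfsg.Lib.Isolated.orderOf_conj', Subgroup.orderOf_coe]
    exact odd_orderOf_of_mem hWodd hw⟩
  have hW'le : W' ≤ Cfsg.oddCore G := Cfsg.Lib.Components.le_pPrimeCore (hn := hW'n)
    (Nat.coprime_two_right.2 (by rwa [card_map_of_injective L.subtype_injective]))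
  intro x hx
  obtain ⟨⟨⟨c, hc⟩, ⟨w, hw⟩⟩, hcw⟩ := hW.surjective ⟨x, hx⟩
  have hx' : x = (c : G) * (w : G) := congrArg Subtype.val hcw.symm
  rw [hx']
  exact mul_mem (mem_sup_left hc) (mem_sup_right (hW'le ⟨w, hw, rfl⟩))

theorem Hyp.restrict {H K : Subgroup G} (hH : Hyp H) (hHK : H ≤ K) : Hyp (H.subgroupOf K) := by
  refine ⟨hH.two.of_injective (subgroupOfEquivOfLe hHK).toMonoidHom (MulEquiv.injective _),
    fun x hx y hy => Subtype.ext (hH.comm x hx y hy), fun g x hx hn => ?_⟩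
  refine hH.closed g x ?_ (mem_normalizer_of_maps fun a ha =>
    (Subgroup.mem_normalizer_iff.1 hn ⟨a, hHK ha⟩).1 ha)
  have h1 : H.subgroupOf K ⊔ (H.subgroupOf K).map (MulAut.conj g).toMonoidHom ≤
      (H ⊔ H.map (MulAut.conj (g : G)).toMonoidHom).comap K.subtype := by
    refine sup_le (fun y hy => mem_sup_left (T := H.map _) hy) ?_
    rintro _ ⟨y, hy, rfl⟩
    exact mem_sup_right (S := H) ⟨(y : G), hy, rfl⟩
  exact h1 hx

theorem main_aux (k : ℕ) : ∀ (G : Type u) [Group G] [Finite G] (H : Subgroup G),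
    Nat.card G = k → Hyp H → ∀ g : G, g ∈ normalizer (H : Set G) ⊔ Cfsg.oddCore G := by
  induction k using Nat.strong_induction_on with
  | _ k ih =>
  intro G _ _ H hk hH g
  haveI : Fact (Nat.Prime 2) := ⟨Nat.prime_two⟩
  by_cases hbot : H = ⊥
  · subst hbot
    exact mem_sup_left (mem_normalizer_of_maps fun x hx => by
      rw [mem_bot] at hx ⊢; rw [hx]; group)
  -- the proper subgroups
  have hlocal : ∀ K : Subgroup G, H ≤ K → K ≠ ⊤ → Local H K := by
    intro K hHK hKT g hg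
    have hlt : Nat.card K < k := hk ▸ lt_of_le_of_ne (card_le_card_group K)
      fun h => hKT (eq_top_of_card_eq K h)
    obtain ⟨t, ht, hn⟩ := local_of_sup (ih _ hlt K _ rfl (hH.restrict hHK)) ⟨g, hg⟩
    exact ⟨t, ⟨t, ht, rfl⟩, mem_normalizer_of_maps fun a ha =>
      (Subgroup.mem_normalizer_iff.1 hn ⟨a, hHK ha⟩).1 ha⟩
  by_cases hcent : ∃ a ∈ H, orderOf a = 2 ∧ ∀ x : G, Commute a x
  · obtain ⟨a, ha, ha2, hac⟩ := hcent
    set Z := zpowers a
    have hZH : Z ≤ H := zpowers_le.2 ha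
    haveI hZn : Z.Normal := ⟨fun x hx y => by
      obtain ⟨i, rfl⟩ := hx
      exact ⟨i, show a ^ i = y * a ^ i * y⁻¹ by
        rw [← ((hac y).zpow_left i).eq, mul_inv_cancel_right]⟩⟩
    set π := QuotientGroup.mk' Z
    set H₁ := H.map π
    have hcomap : H₁.comap π = H := by
      rw [comap_map_eq, QuotientGroup.ker_mk', sup_eq_left.2 hZH]
    have hback : ∀ x : G, π x ∈ normalizer (H₁ : Set (G ⧸ Z)) → x ∈ normalizer (H : Set G) := by
      intro x hx
      refine mem_normalizer_of_maps fun b hb => ?_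
      rw [← hcomap, mem_comap, map_mul, map_mul, map_inv]
      exact (Subgroup.mem_normalizer_iff.1 hx _).1 ⟨b, hb, rfl⟩
    have hH₁ : Hyp H₁ := by
      refine ⟨hH.two.map π, ?_, fun y x hx hn => ?_⟩
      · rintro _ ⟨x, hx, rfl⟩ _ ⟨y, hy, rfl⟩
        rw [← map_mul, ← map_mul, hH.comm x hx y hy]
      obtain ⟨y, rfl⟩ := QuotientGroup.mk'_surjective Z y
      have e : H₁ ⊔ H₁.map (MulAut.conj (π y)).toMonoidHom =
          (H ⊔ H.map (MulAut.conj y).toMonoidHom).map π := by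
        rw [Subgroup.map_sup, map_map, map_map]
        congr 2
      rw [e] at hx
      obtain ⟨z, hz, rfl⟩ := hx
      exact ⟨z, hH.closed y z hz (hback z hn), rfl⟩
    have hlt : Nat.card (G ⧸ Z) < k := by
      rw [← hk, card_eq_card_quotient_mul_card_subgroup Z, Nat.card_zpowers, ha2]
      exact lt_mul_of_one_lt_right Nat.card_pos one_lt_two
    obtain ⟨t, ht, hn⟩ := local_of_sup (ih _ hlt (G ⧸ Z) H₁ rfl hH₁) (π g)
    obtain ⟨t, rfl⟩ := QuotientGroup.mk'_surjective Z t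
    haveI : ((Cfsg.oddCore (G ⧸ Z)).comap π).Normal := inferInstance
    have haL : a ∈ (Cfsg.oddCore (G ⧸ Z)).comap π := by
      rw [mem_comap, show π a = 1 from (QuotientGroup.eq_one_iff a).2 (mem_zpowers a)]
      exact one_mem _
    have hidx : Odd ((zpowers a).relIndex ((Cfsg.oddCore (G ⧸ Z)).comap π)) := by
      have e : (zpowers a).relIndex ((Cfsg.oddCore (G ⧸ Z)).comap π) =
          Nat.card (Cfsg.oddCore (G ⧸ Z)) := by
        conv_rhs => rw [← map_comap_eq_self_of_surjective (QuotientGroup.mk'_surjective Z)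
          (Cfsg.oddCore (G ⧸ Z)), ← relIndex_ker, QuotientGroup.ker_mk']
      rw [e]
      exact Cfsg.Lib.ZStarApps.odd_card_pPrimeCore
    have h1 : t ∈ normalizer (H : Set G) ⊔ Cfsg.oddCore G :=
      sup_le_sup_right (hZH.trans le_normalizer) _ (le_sup_oddCore ha2 hac haL hidx ht)
    rw [show g = t * (t⁻¹ * g) by group]
    exact mul_mem h1 (mem_sup_left (hback _ (by rw [map_mul, map_inv]; exact hn)))
  -- no central involution
  have hproper : ∀ e ∈ H, e ≠ 1 → e * e = 1 → centralizer ({e} : Set G) ≠ ⊤ := by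
    intro e he he1 he2 htop
    refine hcent ⟨e, he, orderOf_eq_prime (by rw [pow_two, he2]) he1, fun x => ?_⟩
    exact (mem_centralizer_singleton_iff.1 (htop ▸ mem_top x)).symm
  have hloc : ∀ e ∈ H, e ≠ 1 → e * e = 1 → Local H (centralizer ({e} : Set G)) :=
    fun e he he1 he2 => hlocal _ (le_cent hH he) (hproper e he he1 he2)
  obtain ⟨a₀, ha₀⟩ : ∃ a : H, orderOf a = 2 := by
    refine exists_prime_orderOf_dvd_card' 2 ?_
    obtain ⟨n, hn⟩ := IsPGroup.iff_card.1 hH.two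
    rw [hn]
    exact dvd_pow_self 2 fun h0 => hbot (Subgroup.card_eq_one.1 (by rw [hn, h0, pow_zero]))
  set a : G := (a₀ : G)
  have hord : orderOf a = 2 := by rw [Subgroup.orderOf_coe, ha₀]
  have ha2 : a * a = 1 := by rw [← pow_two, ← hord]; exact pow_orderOf_eq_one a
  have ha1 : a ≠ 1 := fun h => by simp [h] at hord
  by_cases huniq : ∀ b ∈ H, b ≠ 1 → b * b = 1 → b = a
  · refine of_good_all hH hloc a₀.2 ha1 ha2 (fun x => ?_) g
    obtain ⟨O, hO, o, ho, hn⟩ := hH.decomp x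
    rw [show x = o * (o⁻¹ * x) by group, good_iff hH hO ho hn a₀.2 ha2]
    set n := o⁻¹ * x
    refine huniq _ ((Subgroup.mem_normalizer_iff.1 hn a).1 a₀.2) (fun h => ha1 (conj_eq_one_iff.1 h)) ?_
    rw [show n * a * n⁻¹ * (n * a * n⁻¹) = n * (a * a) * n⁻¹ by group, ha2]; group
  push Not at huniq
  obtain ⟨b, hb, hb1, hb2, hne⟩ := huniq
  set S := (th a : Set G) ∪ th b ∪ th (a * b) ∪
      (centralizer ({a} : Set G) ⊓ centralizer ({b} : Set G) : Subgroup G)
  set Γ := Subgroup.closure S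
  by_cases hΓ : Γ = ⊤
  · exact of_good_all hH hloc a₀.2 ha1 ha2
      (fun x => (good_closure hH hloc a₀.2 ha1 ha2 hb hb1 hb2 (Ne.symm hne)
        (g := x) (show x ∈ Γ from hΓ ▸ mem_top x)).1) g
  have hHΓ : H ≤ Γ := fun x hx =>
    subset_closure (Or.inr ⟨le_cent hH a₀.2 hx, le_cent hH hb hx⟩)
  refine of_sig_bound hH (odd_core Γ) (fun O hO => ?_) g
  refine absorb hH.two hH.comm hHΓ (hlocal Γ hHΓ hΓ) hO fun x hx => ?_
  obtain ⟨u, hu, y, hy, z, hz, rfl⟩ :=
    sig_factor hH hloc hO a₀.2 ha1 ha2 hb hb1 hb2 (Ne.symm hne) hx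
  exact mul_mem (mul_mem (subset_closure (Or.inl (Or.inl (Or.inl hu))))
    (subset_closure (Or.inl (Or.inl (Or.inr hy))))) (subset_closure (Or.inl (Or.inr hz)))

theorem main {H : Subgroup G} (h2 : IsPGroup 2 H) (hab : IsMulCommutative H)
    (hcl : Cfsg.IsExtremelyClosed H) : normalizer (H : Set G) ⊔ Cfsg.oddCore G = ⊤ := by
  refine eq_top_iff.2 fun g _ => main_aux _ G H rfl ⟨h2, fun x hx y hy => ?_, fun g x hx hn => ?_⟩ g
  · exact congrArg Subtype.val (hab.is_comm.comm (⟨x, hx⟩ : H) ⟨y, hy⟩)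
  · have h := hcl g
    rw [← h]
    exact ⟨hx, hn⟩

end Cfsg.Lib.ExtClosed
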